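import Cfsg.Agent.FS.N.R34.Mat

/-!
# `R34G` for the groups between `L₃(4)` and its automorphism group (helper88, project FS/N)
-/

set_option autoImplicit false

namespace Cfsg.Agent.FS.N.R34

open Cfsg Matrix Cfsg.Agent.FS.N.M Cfsg.Agent.FS.Real

/-- `G` lies between the image of `SL₃(4)` and the group of the automorphisms `conj g * φ ^ j * τ ^ ε`. -/
structure Btw {G : Type} [Group G] (ι : G →* MulAut GG) : Prop where
  inj : Function.Injective ι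
  sl : ∀ h ∈ slH ff4 3, ∃ a, ι a = MulAut.conj h
  gam : ∀ a, In0 (ι a)

variable {G : Type} [Group G] {ι : G →* MulAut GG}

/-- the image of `SL₃(4)` -/
noncomputable def NN (ι : G →* MulAut GG) : Subgroup G := ((slH ff4 3).map MulAut.conj).comap ι

/-- the unitriangular group -/
noncomputable def UU (ι : G →* MulAut GG) : Subgroup G where
  carrier := {a | ∃ p r q, ι a = MulAut.conj (xu p r q)}
  one_mem' := ⟨0, 0, 0, by rw [xu_zero, map_one, map_one]⟩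
  mul_mem' := by
    rintro a b ⟨p, r, q, h⟩ ⟨p', r', q', h'⟩
    exact ⟨_, _, _, by rw [map_mul, h, h', ← map_mul, xu_mul]⟩
  inv_mem' := by
    rintro a ⟨p, r, q, h⟩
    exact ⟨_, _, _, by rw [map_inv, h, ← map_inv, xu_inv]⟩

theorem UU_le : UU ι ≤ NN ι := fun _ ⟨p, r, q, h⟩ => ⟨_, xu_sl p r q, h.symm⟩

theorem cj {a b : G} {u : GG} (h : ι b = MulAut.conj u) : ι (a * b * a⁻¹) = MulAut.conj (ι a u) := by
  rw [map_mul, map_mul, map_inv, h, conj_mul_aut, mul_inv_cancel_right]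

theorem card_sl : Nat.card (slH ff4 3) = 60480 := card_famSL ff4 3 4 60480 (by norm_num) rfl (by decide)

namespace Btw

variable (h : Btw ι)
include h

theorem normal : (NN ι).Normal := ⟨fun _ ⟨_, hu, k⟩ a => ⟨_, (h.gam a).sl hu, (cj k.symm).symm⟩⟩

/-- the elements of `UU` -/
noncomputable def ue (p r q : F) : G := (h.sl _ (xu_sl p r q)).choose

theorem ue_spec (p r q : F) : ι (h.ue p r q) = MulAut.conj (xu p r q) := (h.sl _ (xu_sl p r q)).choose_spec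

theorem ue_mem (p r q : F) : h.ue p r q ∈ UU ι := ⟨p, r, q, h.ue_spec p r q⟩

theorem mem_UU {a : G} (ha : a ∈ UU ι) : ∃ p r q, a = h.ue p r q := by
  obtain ⟨p, r, q, k⟩ := ha
  exact ⟨p, r, q, h.inj (k.trans (h.ue_spec p r q).symm)⟩

theorem ue_inj {p r q p' r' q' : F} (k : h.ue p r q = h.ue p' r' q') : p = p' ∧ r = r' ∧ q = q' :=
  xu_inj (eq_of_conj (xu_four _ _ _) (xu_four _ _ _) (by rw [← h.ue_spec, k, h.ue_spec]))

theorem ue_mul (p r q p' r' q' : F) : h.ue p r q * h.ue p' r' q' = h.ue (p + p') (r + r') (q + q' + p * r') :=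
  h.inj (by rw [map_mul, h.ue_spec, h.ue_spec, h.ue_spec, ← map_mul, xu_mul])

theorem ue_zero : h.ue 0 0 0 = 1 := h.inj (by rw [h.ue_spec, xu_zero, map_one, map_one])

theorem cj_iff {a : G} {p r q p' r' q' : F} :
    a * h.ue p r q * a⁻¹ = h.ue p' r' q' ↔ ι a (xu p r q) = xu p' r' q' :=
  ⟨fun k => eq_of_conj (by rw [← map_pow, xu_four, map_one]) (xu_four _ _ _) (by
    rw [← cj (h.ue_spec p r q), k, h.ue_spec]), fun k => h.inj (by rw [cj (h.ue_spec p r q), k, h.ue_spec])⟩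

theorem card_UU : Nat.card (UU ι) = 64 := by
  have k : Function.Bijective fun v : F × F × F => (⟨h.ue v.1 v.2.1 v.2.2, h.ue_mem _ _ _⟩ : UU ι) := by
    refine ⟨fun v w k => ?_, fun a => ?_⟩
    · obtain ⟨k1, k2, k3⟩ := h.ue_inj (show h.ue v.1 v.2.1 v.2.2 = h.ue w.1 w.2.1 w.2.2 from congrArg Subtype.val k)
      exact Prod.ext k1 (Prod.ext k2 k3)
    · obtain ⟨p, r, q, k⟩ := h.mem_UU a.2
      exact ⟨(p, r, q), Subtype.ext k.symm⟩
  rw [← Nat.card_eq_of_bijective _ k, Nat.card_prod, Nat.card_prod, Nat.card_eq_fintype_card, card_F]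

theorem card_NN : Nat.card (NN ι) ∣ 60480 := by
  rw [← card_sl]
  refine dvd_trans ?_ (Subgroup.card_map_dvd (slH ff4 3) MulAut.conj)
  exact Subgroup.card_dvd_of_injective (ι.subgroupComap _) fun a b k => Subtype.ext (h.inj (congrArg Subtype.val k))

theorem inf_NN [Finite G] {S : Subgroup G} (hS : IsPGroup 2 S) (hU : UU ι ≤ S) : S ⊓ NN ι = UU ι := by
  have : Fact (Nat.Prime 2) := ⟨Nat.prime_two⟩
  obtain ⟨j, hj⟩ := IsPGroup.iff_card.1 (hS.to_le (inf_le_left : S ⊓ NN ι ≤ S))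
  have h1 : 2 ^ j ∣ 60480 := hj ▸ (Subgroup.card_dvd_of_le inf_le_right).trans h.card_NN
  have h2 : j ≤ 6 := by
    by_contra k
    exact absurd ((pow_dvd_pow 2 (by omega : 7 ≤ j)).trans h1) (by norm_num)
  refine (Subgroup.eq_of_le_of_card_ge (le_inf hU UU_le) ?_).symm
  rw [hj, h.card_UU]
  exact Nat.pow_le_pow_right (by norm_num) h2

theorem UU_res : UU ι ≤ pResidual 2 G := by
  rintro u ⟨p, r, q, k⟩
  obtain ⟨w, hw⟩ := exists_om
  have h0 : w ≠ 0 := by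
    rintro rfl
    simp at hw
  have key : ∀ p r q : F, ∃ a ∈ pResidual 2 G, ι a = MulAut.conj (xu p r q * dg (Units.mk0 w h0)) := fun p r q => by
    obtain ⟨a, ha⟩ := h.sl _ (bq_sl (Units.mk0 w h0) p r q)
    exact ⟨a, mem_pResidual_of_pow (m := 3) rfl (h.inj (by
      rw [map_pow, ha, ← map_pow, bq_cube hw, map_one, map_one])), ha⟩
  obtain ⟨a, ha, k1⟩ := key p r q
  obtain ⟨b, hb, k2⟩ := key 0 0 0
  rw [show u = a * b⁻¹ from h.inj (by
    rw [map_mul, map_inv, k1, k2, k, xu_zero, one_mul, map_mul, mul_inv_cancel_right])]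
  exact mul_mem ha (inv_mem hb)

theorem res_inn {a : G} (ha : a ∈ pResidual 2 G) : ∃ g, ι a = MulAut.conj g := by
  have k : pResidual 2 G ≤ (MulAut.conj (G := GG)).range.comap ι := by
    refine (Subgroup.closure_le _).2 fun b hb => ?_
    obtain ⟨g, hg⟩ := (h.gam b).sq
    obtain ⟨m, hm⟩ := Nat.coprime_two_right.1 hb
    have h2 : b = ((b * b) ^ m)⁻¹ := by
      rw [eq_inv_iff_mul_eq_one, ← pow_two, ← pow_mul, ← pow_succ', ← hm, pow_orderOf_eq_one]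
    rw [h2]
    exact inv_mem (pow_mem (show b * b ∈ (MulAut.conj (G := GG)).range.comap ι from ⟨g, by rw [map_mul, hg]⟩) m)
  obtain ⟨g, hg⟩ := k ha
  exact ⟨g, hg.symm⟩

omit h in
theorem mem_NN {S : Subgroup G} (hS : IsPGroup 2 S) {s : G} (hs : s ∈ S) {g : GG} (hg : ι s = MulAut.conj g) :
    s ∈ NN ι := by
  obtain ⟨m, hm⟩ := hS ⟨s, hs⟩
  have h1 : s ^ 2 ^ m = 1 := congrArg Subtype.val hm
  have h2 : s ^ 3 ∈ NN ι := ⟨g ^ 3, by
    show g ^ 3 ∈ slH ff4 3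
    rw [mem_slH, Units.val_pow_eq_pow_val, det_pow]
    exact cube g.det_ne_zero, by rw [map_pow, map_pow, hg]⟩
  obtain ⟨k, hk⟩ : ∃ k, 2 ^ m * 2 ^ m = 3 * k + 1 := ⟨2 ^ m * 2 ^ m / 3, by
    have h3 : 2 ^ m * 2 ^ m % 3 = 1 := by rw [← mul_pow, Nat.pow_mod]; simp
    omega⟩
  have h3 : s = ((s ^ 3) ^ k)⁻¹ := by
    rw [eq_inv_iff_mul_eq_one, ← pow_mul, ← pow_succ', ← hk, pow_mul, h1, one_pow]
  rw [h3]
  exact inv_mem (pow_mem h2 k)

theorem res_eq [Finite G] {S : Subgroup G} (hS : IsPGroup 2 S) (hU : UU ι ≤ S) : res S = UU ι := by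
  refine le_antisymm (fun s hs => ?_) (le_inf hU h.UU_res)
  obtain ⟨g, hg⟩ := h.res_inn hs.2
  rw [← h.inf_NN hS hU]
  exact ⟨hs.1, mem_NN hS hs.1 hg⟩

theorem z_cen : ∀ y ∈ UU ι, h.ue 0 0 1 * y = y * h.ue 0 0 1 := fun y hy => by
  obtain ⟨p, r, q, rfl⟩ := h.mem_UU hy
  rw [h.ue_mul, h.ue_mul]
  congr 1 <;> ring

theorem zt {a : G} (h1 : a * h.ue 0 0 1 * a⁻¹ ∈ UU ι)
    (h2 : ∀ y ∈ UU ι, a * h.ue 0 0 1 * a⁻¹ * y = y * (a * h.ue 0 0 1 * a⁻¹)) : ∃ t, ι a (xu 0 0 1) = xu 0 0 t := by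
  obtain ⟨p, r, q, k⟩ := h.mem_UU h1
  have k1 := h2 _ (h.ue_mem 1 0 0)
  have k2 := h2 _ (h.ue_mem 0 1 0)
  rw [k, h.ue_mul, h.ue_mul] at k1 k2
  obtain rfl : r = 0 := by linear_combination -(h.ue_inj k1).2.2
  obtain rfl : p = 0 := by linear_combination (h.ue_inj k2).2.2
  exact ⟨q, h.cj_iff.1 k⟩

theorem mem_norm [Finite G] {a : G} {t : F} (k : ι a (xu 0 0 1) = xu 0 0 t) :
    a ∈ Subgroup.normalizer (UU ι : Set G) := by
  refine Subgroup.mem_normalizer_fintype fun u hu => ?_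
  obtain ⟨p, r, q, rfl⟩ := h.mem_UU hu
  obtain ⟨p', r', q', k1⟩ := (h.gam a).nm k p r q
  rw [h.cj_iff.2 k1]
  exact h.ue_mem _ _ _

theorem zt_of {a : G} (ha : a ∈ Subgroup.normalizer (UU ι : Set G)) : ∃ t, ι a (xu 0 0 1) = xu 0 0 t := by
  refine h.zt ((Subgroup.mem_normalizer_iff.1 ha _).1 (h.ue_mem 0 0 1)) fun y hy => ?_
  have k := h.z_cen _ ((Subgroup.mem_normalizer_iff''.1 ha y).1 hy)
  calc a * h.ue 0 0 1 * a⁻¹ * y = a * (h.ue 0 0 1 * (a⁻¹ * y * a)) * a⁻¹ := by group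
    _ = y * (a * h.ue 0 0 1 * a⁻¹) := by rw [k]; group

theorem card_borel [Finite G] : Nat.card ↥(NN ι ⊓ Subgroup.normalizer (UU ι : Set G)) = 192 := by
  classical
  choose f hf using fun v : Fˣ × F × F × F => h.sl _ (bq_sl v.1 v.2.1 v.2.2.1 v.2.2.2)
  have h1 : ∀ v, f v ∈ NN ι ⊓ Subgroup.normalizer (UU ι : Set G) := fun v =>
    ⟨⟨_, bq_sl _ _ _ _, (hf v).symm⟩, Subgroup.mem_normalizer_fintype fun u hu => by
      obtain ⟨p, r, q, rfl⟩ := h.mem_UU hu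
      obtain ⟨p', r', q', k1⟩ := bq_conj v.1 v.2.1 v.2.2.1 v.2.2.2 p r q
      rw [h.cj_iff.2 (by rw [hf]; exact k1)]
      exact h.ue_mem _ _ _⟩
  have k : Function.Bijective fun v => (⟨f v, h1 v⟩ : ↥(NN ι ⊓ Subgroup.normalizer (UU ι : Set G))) := by
    refine ⟨fun v w k => ?_, ?_⟩
    · obtain ⟨k1, k2, k3, k4⟩ := bq_inj ((hf v).symm.trans ((congrArg ι (congrArg Subtype.val k)).trans (hf w)))
      exact Prod.ext k1 (Prod.ext k2 (Prod.ext k3 k4))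
    · rintro ⟨a, ⟨g, hg, k1⟩, k2⟩
      obtain ⟨t, ht⟩ := h.zt_of k2
      rw [← k1] at ht
      obtain ⟨c, p, r, q, k3⟩ := (up_of ht).bq hg
      exact ⟨(c, p, r, q), Subtype.ext (h.inj ((hf _).trans (k3.symm.trans k1)))⟩
  rw [← Nat.card_eq_of_bijective _ k, Nat.card_prod, Nat.card_prod, Nat.card_prod, Nat.card_units,
    Nat.card_eq_fintype_card, card_F]

theorem fpf [Finite G] : ∃ t ∈ NN ι, t ∈ Subgroup.normalizer (UU ι : Set G) ∧ t ^ 3 = 1 ∧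
    ∀ y ∈ UU ι, t * y = y * t → y = 1 := by
  obtain ⟨w, hw⟩ := exists_om
  have h0 : w ≠ 0 := by
    rintro rfl
    simp at hw
  have h1 : w⁻¹ = w ^ 2 := inv_eq_of_mul_eq_one_right (by linear_combination cube h0)
  have h2 : w ≠ 1 := by
    rintro rfl
    exact one_ne_zero (α := F) (by linear_combination hw - two)
  have h3 : ∀ a : F, w ^ 2 * a = a → a = 0 := fun a k => by
    by_contra k1
    exact h2 (by linear_combination cube h0 - w * mul_right_cancel₀ k1 (k.trans (one_mul a).symm))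
  obtain ⟨t, ht⟩ := h.sl _ (bq_sl (Units.mk0 w h0) 0 0 0)
  have h4 : ∀ p r q, ι t (xu p r q) = xu (w ^ 2 * p) (w ^ 2 * r) (w * q) := fun p r q => by
    rw [ht, MulAut.conj_apply, up_conj h0 (inv_ne_zero h0) (bq_val (Units.mk0 w h0) 0 0 0), Units.val_mk0]
    congr 1
    · rw [one_div, h1]
    · rw [div_inv_eq_mul, pow_two]
    · simp
  refine ⟨t, ⟨_, bq_sl _ 0 0 0, ht.symm⟩, h.mem_norm (t := w) (by rw [h4]; simp), h.inj (by
    rw [map_pow, ht, ← map_pow, bq_cube hw, map_one, map_one]), fun y hy k => ?_⟩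
  obtain ⟨p, r, q, rfl⟩ := h.mem_UU hy
  obtain ⟨k1, k2, k3⟩ := xu_inj ((h4 p r q).symm.trans (h.cj_iff.1 (by rw [k, mul_inv_cancel_right])))
  rw [h3 p k1, h3 r k2, h3 q (by linear_combination (w + 1) * k3), h.ue_zero]

omit h in
theorem cover {P : Subgroup G} (hc : Nat.card P = 16) {f : F × F → G} (hP : ∀ x ∈ P, ∃ v, f v = x) (v : F × F) :
    f v ∈ P := by
  have h1 : (P : Set G) = Set.range f := Set.eq_of_subset_of_ncard_le hP (by
    rw [← Set.image_univ, show (P : Set G).ncard = 16 from hc]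
    refine (Set.ncard_image_le Set.finite_univ).trans ?_
    rw [Set.ncard_univ, Nat.card_prod, Nat.card_eq_fintype_card, card_F]) (Set.finite_range f)
  show f v ∈ (P : Set G)
  rw [h1]
  exact ⟨v, rfl⟩

theorem core0 [Finite G] {S : Subgroup G} (hS : IsPGroup 2 S) (hU : UU ι ≤ S) :
    Subgroup.centralizer (UU ι : Set G) ≤ UU ι ∧
    (∀ g : G, (∀ z ∈ UU ι, (∀ y ∈ UU ι, z * y = y * z) →
      g * z * g⁻¹ ∈ UU ι ∧ ∀ y ∈ UU ι, g * z * g⁻¹ * y = y * (g * z * g⁻¹)) →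
        g ∈ Subgroup.normalizer (UU ι : Set G)) ∧
    ∀ P : Subgroup G, P ≤ UU ι → Nat.card P = 16 → (∀ x ∈ P, x * x = 1) → ∀ s ∈ S, s ∉ UU ι →
      (∀ x ∈ P, s * x * s⁻¹ ∈ P) → ∀ x ∈ P, s * x = x * s → ∃ y ∈ P, x = s * y * s⁻¹ * y⁻¹ := by
  have hN := h.normal
  refine ⟨fun a ha => (h.gam a).cen fun p r q => h.cj_iff.1 ?_, fun a ha => ?_,
    fun P hP hc hsq s hs hn hsP x hx hsx => ?_⟩
  · rw [← Subgroup.mem_centralizer_iff.1 ha _ (h.ue_mem p r q), mul_inv_cancel_right]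
  · obtain ⟨k1, k2⟩ := ha _ (h.ue_mem 0 0 1) h.z_cen
    obtain ⟨t, ht⟩ := h.zt k1 k2
    exact h.mem_norm ht
  · obtain ⟨t, ht⟩ := h.zt_of (a := s) (Subgroup.mem_normalizer_fintype fun u hu => by
      rw [← h.inf_NN hS hU] at hu ⊢
      exact ⟨S.mul_mem (S.mul_mem hs hu.1) (S.inv_mem hs), hN.conj_mem _ hu.2 s⟩)
    have hn' : ∀ g, ι s ≠ MulAut.conj g := fun g k => hn (h.inf_NN hS hU ▸ ⟨hs, mem_NN hS hs k⟩)
    have h1 : ∀ p r q, h.ue p r q ∈ P → p = 0 ∨ r = 0 := fun p r q k => by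
      have k1 := hsq _ k
      rw [h.ue_mul, ← h.ue_zero] at k1
      exact mul_eq_zero.1 (by linear_combination (h.ue_inj k1).2.2 - q * two)
    have hfin : ∀ {p r q p' r' q' : F}, xu p r q = ι s (xu p' r' q') * (xu p' r' q')⁻¹ →
        h.ue p r q = s * h.ue p' r' q' * s⁻¹ * (h.ue p' r' q')⁻¹ := fun k => h.inj (by
      rw [h.ue_spec, k, map_mul ι, cj (h.ue_spec _ _ _), map_inv ι, h.ue_spec, map_mul, map_inv])
    by_cases h2 : ∀ p r q, h.ue p r q ∈ P → r = 0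
    · have h3 : ∀ x ∈ P, ∃ v : F × F, h.ue v.1 0 v.2 = x := fun x hx => by
        obtain ⟨p, r, q, rfl⟩ := h.mem_UU (hP hx)
        obtain rfl := h2 p r q hx
        exact ⟨(p, q), rfl⟩
      obtain ⟨v, rfl⟩ := h3 x hx
      obtain ⟨w, hw⟩ := h3 _ (hsP _ (cover hc h3 (1, 0)))
      obtain ⟨r, t, k⟩ := (h.gam s).row ht hn' (h.cj_iff.1 hw.symm) (p := v.1) (q := v.2)
        (h.cj_iff.1 (by rw [hsx, mul_inv_cancel_right]))
      exact ⟨_, cover hc h3 (r, t), hfin k⟩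
    · push Not at h2
      obtain ⟨p0, r0, q0, k0, k1⟩ := h2
      obtain rfl := (h1 _ _ _ k0).resolve_right k1
      have h3 : ∀ x ∈ P, ∃ v : F × F, h.ue 0 v.1 v.2 = x := fun x hx => by
        obtain ⟨p, r, q, rfl⟩ := h.mem_UU (hP hx)
        by_cases k2 : p = 0
        · exact ⟨(r, q), by rw [k2]⟩
        · have k3 := mul_mem hx k0
          rw [h.ue_mul, (h1 _ _ _ hx).resolve_left k2, add_zero, zero_add] at k3
          exact absurd ((h1 _ _ _ k3).resolve_left k2) k1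
      obtain ⟨v, rfl⟩ := h3 x hx
      obtain ⟨w, hw⟩ := h3 _ (hsP _ (cover hc h3 (1, 0)))
      obtain ⟨r, t, k⟩ := (h.gam s).col ht hn' (h.cj_iff.1 hw.symm) (p := v.1) (q := v.2)
        (h.cj_iff.1 (by rw [hsx, mul_inv_cancel_right]))
      exact ⟨_, cover hc h3 (r, t), hfin k⟩

theorem core [Finite G] {S : Subgroup G} (hS : IsPGroup 2 S) (hU : UU ι ≤ S) : R34G S := by
  obtain ⟨h1, h2, h3⟩ := h.core0 hS hU
  unfold R34G
  rw [h.res_eq hS hU]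
  first
  | exact ⟨NN ι, h.normal, h.inf_NN hS hU, h1, h.card_borel, h2, h3, h.fpf⟩
  | exact ⟨NN ι, h.normal, h.inf_NN hS hU, h1, h.card_borel, h2, h3⟩

theorem cnj (g : G) : Btw (ι.comp (MulAut.conj g).toMonoidHom) :=
  ⟨h.inj.comp (MulAut.conj g).injective, fun u hu => by
    obtain ⟨a, ha⟩ := h.sl u hu
    exact ⟨(MulAut.conj g).symm a, by rw [← ha]; exact congrArg ι ((MulAut.conj g).apply_symm_apply a)⟩,
    fun _ => h.gam _⟩

/-- **`R34G` for every Sylow 2-subgroup.** -/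
theorem r34 [Finite G] (T : Sylow 2 G) : R34G (T : Subgroup G) := by
  have : Fact (Nat.Prime 2) := ⟨Nat.prime_two⟩
  obtain ⟨S, hS⟩ := (IsPGroup.of_card (p := 2) (n := 6) h.card_UU).exists_le_sylow
  obtain ⟨g, hg⟩ := MulAction.exists_smul_eq G T S
  refine (h.cnj g).core T.isPGroup' fun a ha => ?_
  have k : MulAut.conj g a ∈ (S : Subgroup G) := hS ha
  rw [← hg, Sylow.coe_subgroup_smul] at k
  exact Subgroup.smul_mem_pointwise_smul_iff.1 k

end Btw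

theorem btw_fam (Φ : Fam ff4 (Equiv.refl (Fin 3))) (hΦ : slH ff4 3 ≤ Φ.H) {ts : List (ℕ × ℕ)} {D : PcD} {X : ℕ → ℕ}
    {x : ℕ → MulAut GG} (hx : (mAut ff4 (Equiv.refl (Fin 3)) ts).RX D X x) : Btw (ext Φ.N D.n x).subtype := by
  have h1 : ext Φ.N D.n x ≤ Gam := by
    refine sup_le ?_ ((Subgroup.closure_le _).2 ?_)
    · rintro _ ⟨g, -, rfl⟩
      exact ⟨g, 0, by rw [sig_zero, mul_one]⟩
    · rintro _ ⟨i, hi, rfl⟩
      obtain ⟨g, -, k⟩ := hx i hi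
      exact ⟨g, _, k⟩
  exact ⟨Subgroup.subtype_injective _, fun u hu => ⟨⟨_, Subgroup.mem_sup_left ⟨u, hΦ hu, rfl⟩⟩, rfl⟩, fun a => h1 a.2⟩

theorem Btw.gen {D : PcD} {y : ℕ → G} {K : ℕ} (h : Btw ι) (B : Base D G y K) (S : Subgroup G) (H : Gen D S y) :
    R34G S := by
  obtain ⟨_, ⟨T, k, -⟩, -⟩ := B
  rw [show S = T from Subgroup.ext fun g => (H.mem g).trans (k.mem g).symm]
  exact h.r34 T

/-- the models `L₃(4).x` (any `D`, any presentation `y`) -/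
theorem r34_SL {ts : List (ℕ × ℕ)} {D E : PcD} {X : ℕ → ℕ} {x : ℕ → MulAut GG}
    (hx : (mAut ff4 (Equiv.refl (Fin 3)) ts).RX D X x) {y : ℕ → (famSL ff4 3).Gp D x} {K : ℕ}
    (B : Base E ((famSL ff4 3).Gp D x) y K) (S : Subgroup ((famSL ff4 3).Gp D x)) (H : Gen E S y) : R34G S :=
  (btw_fam (famSL ff4 3) le_rfl hx).gen B S H

/-- the models `PGL₃(4).x` -/
theorem r34_GL {ts : List (ℕ × ℕ)} {D E : PcD} {X : ℕ → ℕ} {x : ℕ → MulAut GG}
    (hx : (mAut ff4 (Equiv.refl (Fin 3)) ts).RX D X x) {y : ℕ → (famGL ff4 3).Gp D x} {K : ℕ}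
    (B : Base E ((famGL ff4 3).Gp D x) y K) (S : Subgroup ((famGL ff4 3).Gp D x)) (H : Gen E S y) : R34G S :=
  (btw_fam (famGL ff4 3) le_top hx).gen B S H

end Cfsg.Agent.FS.N.R34
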