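import Cfsg.Agent.FS.N.M.Fams

/-!
# The unitriangular group of `GL₃(4)` and the automorphisms which normalize it (helper88, project FS/N)
-/

set_option autoImplicit false

namespace Cfsg.Agent.FS.N.R34

open Matrix Cfsg.Agent.FS.N.M

/-- the field -/
abbrev F : Type := ff4.F

/-- the group -/
abbrev GG : Type := GL (Fin 3) F

theorem two : (2 : F) = 0 := by
  have := ff4.charP
  exact CharP.cast_eq_zero F ff4.p

theorem card_F : Fintype.card F = 4 := ff4.card

theorem pow4 (x : F) : x ^ 4 = x := by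
  have h := FiniteField.pow_card x
  rwa [card_F] at h

theorem cube {x : F} (h : x ≠ 0) : x ^ 3 = 1 := mul_left_cancel₀ h (by linear_combination pow4 x)

theorem exists_om : ∃ w : F, w ^ 2 + w + 1 = 0 := by
  classical
  by_contra h
  have h1 : (Finset.univ : Finset F) ⊆ {0, 1} := fun x _ => by
    by_cases h0 : x = 0
    · simp [h0]
    · have h2 : (x - 1) * (x ^ 2 + x + 1) = 0 := by linear_combination cube h0
      rcases mul_eq_zero.1 h2 with h3 | h3
      · simp [sub_eq_zero.1 h3]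
      · exact absurd ⟨x, h3⟩ h
  have h2 := (Finset.card_le_card h1).trans Finset.card_le_two
  rw [Finset.card_univ, card_F] at h2
  omega

theorem fr_eq (a : F) : ff4.fr a = a ^ 2 := rfl

/-- fixed points of a semilinear map -/
theorem semi {a b c p q : F} (hc : c ≠ 0) (h1 : a * p ^ 2 = p) (h2 : b * p ^ 2 + c * q ^ 2 = q) :
    ∃ r t : F, a * r ^ 2 = p + r ∧ b * r ^ 2 + c * t ^ 2 = q + t := by
  obtain ⟨w, hw⟩ := exists_om
  have k0 : w ≠ 0 := by
    rintro rfl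
    simp at hw
  have k1 : c * b ^ 2 * p = b * p ^ 2 := by
    have k2 : (b * p ^ 2 + c * q ^ 2) ^ 2 = q ^ 2 := by rw [h2]
    linear_combination c * k2 - c * b ^ 2 * pow4 p - c ^ 3 * pow4 q - q * cube hc - h2 +
      (-(b * c ^ 2 * p ^ 2 * q ^ 2) + c * q ^ 2 - q) * two
  refine ⟨w * p, w * (q + b * w ^ 2 * p ^ 2), ?_, ?_⟩
  · linear_combination w ^ 2 * h1 + p * hw - (p + w * p) * two
  · have k3 := cube k0
    have k4 := pow4 p
    linear_combination w ^ 2 * h2 + w ^ 6 * k1 + c * b ^ 2 * w ^ 6 * k4 + q * hw +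
      (b * p ^ 2 * w ^ 3) * k3 + (c * w ^ 4 * q * b * p ^ 2 - q - w * q) * two

/-- the unitriangular matrices -/
noncomputable def xu (p r q : F) : GG :=
  ⟨!![1, p, q; 0, 1, r; 0, 0, 1], !![1, -p, p * r - q; 0, 1, -r; 0, 0, 1], by
    ext i j; fin_cases i <;> fin_cases j <;> simp [Matrix.mul_apply, Fin.sum_univ_three] <;> ring, by
    ext i j; fin_cases i <;> fin_cases j <;> simp [Matrix.mul_apply, Fin.sum_univ_three] <;> ring⟩

theorem xu_val (p r q : F) : (xu p r q : Matrix (Fin 3) (Fin 3) F) = !![1, p, q; 0, 1, r; 0, 0, 1] := rfl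

theorem xu_mul (p r q p' r' q' : F) : xu p r q * xu p' r' q' = xu (p + p') (r + r') (q + q' + p * r') := Units.ext (by
  rw [Units.val_mul, xu_val, xu_val, xu_val]
  ext i j; fin_cases i <;> fin_cases j <;> simp [Matrix.mul_apply, Fin.sum_univ_three] <;> ring)

theorem xu_zero : xu 0 0 0 = 1 := Units.ext (by
  rw [xu_val]
  ext i j; fin_cases i <;> fin_cases j <;> simp)

theorem xu_inv (p r q : F) : (xu p r q)⁻¹ = xu (-p) (-r) (p * r - q) :=
  inv_eq_of_mul_eq_one_right (by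
    rw [xu_mul, ← xu_zero]
    congr 1 <;> ring)

theorem xu_inj {p r q p' r' q' : F} (h : xu p r q = xu p' r' q') : p = p' ∧ r = r' ∧ q = q' := by
  have h1 := congrArg Units.val h
  rw [xu_val, xu_val] at h1
  exact ⟨congrFun (congrFun h1 0) 1, congrFun (congrFun h1 1) 2, congrFun (congrFun h1 0) 2⟩

theorem xu_sq (p r q : F) : xu p r q * xu p r q = xu 0 0 (p * r) := by
  rw [xu_mul]
  congr 1
  · linear_combination p * two
  · linear_combination r * two
  · linear_combination q * two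

theorem xu_four (p r q : F) : xu p r q ^ 4 = 1 := by
  rw [show 4 = 2 * 2 from rfl, pow_mul, pow_two, pow_two, xu_sq, xu_sq, zero_mul, xu_zero]

theorem xu_sl (p r q : F) : xu p r q ∈ slH ff4 3 := by
  rw [mem_slH, xu_val, det_fin_three]
  simp

/-- the diagonal matrices -/
noncomputable def dg (a : Fˣ) : GG :=
  ⟨!![1, 0, 0; 0, (a : F), 0; 0, 0, (a⁻¹ : Fˣ)], !![1, 0, 0; 0, (a⁻¹ : Fˣ), 0; 0, 0, (a : F)], by
    ext i j; fin_cases i <;> fin_cases j <;> simp [Matrix.mul_apply, Fin.sum_univ_three], by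
    ext i j; fin_cases i <;> fin_cases j <;> simp [Matrix.mul_apply, Fin.sum_univ_three]⟩

theorem bq_val (a : Fˣ) (p r q : F) : ((xu p r q * dg a : GG) : Matrix (Fin 3) (Fin 3) F) =
    !![1, p * a, q * (a : F)⁻¹; 0, a, r * (a : F)⁻¹; 0, 0, (a : F)⁻¹] := by
  rw [Units.val_mul, xu_val]
  show _ * !![1, 0, 0; 0, (a : F), 0; 0, 0, (a⁻¹ : Fˣ)] = _
  ext i j; fin_cases i <;> fin_cases j <;> simp [Matrix.mul_apply, Fin.sum_univ_three]

theorem bq_sl (a : Fˣ) (p r q : F) : xu p r q * dg a ∈ slH ff4 3 := by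
  rw [mem_slH, bq_val, det_fin_three]
  simp

theorem bq_cube {a : Fˣ} (h : (a : F) ^ 2 + a + 1 = 0) (p r q : F) : (xu p r q * dg a) ^ 3 = 1 := Units.ext (by
  have h1 : (a : F)⁻¹ = (a : F) ^ 2 := inv_eq_of_mul_eq_one_right (by linear_combination cube a.ne_zero)
  have h2 := cube a.ne_zero
  rw [Units.val_pow_eq_pow_val, bq_val, h1, pow_three']
  ext i j; fin_cases i <;> fin_cases j <;> simp [Matrix.mul_apply, Fin.sum_univ_three]
  · linear_combination (p * a) * h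
  · linear_combination (q * a ^ 2 + p * r * a ^ 3) * h + (q * a ^ 3) * h2
  · linear_combination h2
  · linear_combination (r * a ^ 4) * h
  · linear_combination (a ^ 3 + 1) * h2)

/-- upper triangular -/
def Up (g : GG) : Prop :=
  ∃ a b c x y z : F, a ≠ 0 ∧ b ≠ 0 ∧ c ≠ 0 ∧ (g : Matrix (Fin 3) (Fin 3) F) = !![a, x, y; 0, b, z; 0, 0, c]

theorem up_conj {g : GG} {a b c x y z : F} (hb : b ≠ 0) (hc : c ≠ 0)
    (h : (g : Matrix (Fin 3) (Fin 3) F) = !![a, x, y; 0, b, z; 0, 0, c]) (p r q : F) :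
    g * xu p r q * g⁻¹ = xu (a / b * p) (b / c * r) (a / c * q + x / c * r - a / b * z / c * p) := by
  rw [mul_inv_eq_iff_eq_mul]
  refine Units.ext ?_
  rw [Units.val_mul, Units.val_mul, h, xu_val, xu_val]
  ext i j; fin_cases i <;> fin_cases j <;> simp [Matrix.mul_apply, Fin.sum_univ_three] <;> field_simp <;> ring

theorem up_of {g : GG} {t : F} (h : g * xu 0 0 1 * g⁻¹ = xu 0 0 t) : Up g := by
  have ht : t ≠ 0 := by
    rintro rfl
    rw [xu_zero, mul_inv_eq_one, mul_eq_left, ← xu_zero] at h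
    exact one_ne_zero (xu_inj h).2.2
  rw [mul_inv_eq_iff_eq_mul] at h
  have h1 := congrArg Units.val h
  rw [Units.val_mul, Units.val_mul, xu_val, xu_val] at h1
  have k1 := congrFun (congrFun h1 1) 2
  have k2 := congrFun (congrFun h1 2) 2
  have k3 := congrFun (congrFun h1 0) 1
  simp [Matrix.mul_apply, Fin.sum_univ_three, ht] at k1 k2 k3
  have h2 : (g : Matrix (Fin 3) (Fin 3) F) = !![g 0 0, g 0 1, g 0 2; 0, g 1 1, g 1 2; 0, 0, g 2 2] := by
    ext i j; fin_cases i <;> fin_cases j <;> simp [k1, k2, k3]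
  have h3 : (g : Matrix (Fin 3) (Fin 3) F).det ≠ 0 := g.det_ne_zero
  rw [h2, det_fin_three] at h3
  simp at h3
  exact ⟨_, _, _, _, _, _, h3.1.1, h3.1.2, h3.2, h2⟩

theorem conj_eq_iff {g h : GG} : MulAut.conj g = MulAut.conj h ↔
    ∃ c : F, (g : Matrix (Fin 3) (Fin 3) F) = c • (h : Matrix (Fin 3) (Fin 3) F) := by
  constructor
  · intro k
    have h1 : g * h⁻¹ ∈ Subgroup.center GG := Subgroup.mem_center_iff.2 fun u => by
      have h2 : MulAut.conj (g * h⁻¹) u = u := by rw [map_mul, map_inv, k, mul_inv_cancel]; rfl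
      rw [MulAut.conj_apply, mul_inv_eq_iff_eq_mul] at h2
      exact h2.symm
    obtain ⟨c, hc⟩ := GeneralLinearGroup.mem_center_iff_val_mem_range_scalar.1 h1
    refine ⟨c, ?_⟩
    rw [Matrix.smul_eq_diagonal_mul, ← Matrix.scalar_apply, hc, ← Units.val_mul, inv_mul_cancel_right]
  · rintro ⟨c, hc⟩
    refine MulEquiv.ext fun u => ?_
    have h1 : h⁻¹ * g * u = u * (h⁻¹ * g) := Units.ext (by
      simp only [Units.val_mul, hc, Matrix.mul_smul, Units.inv_mul, Matrix.smul_mul, one_mul, mul_one])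
    rw [MulAut.conj_apply, MulAut.conj_apply, ← mul_inv_cancel_left h (g * u), ← mul_assoc h⁻¹, h1]
    group

theorem eq_of_conj {g h : GG} (hg : g ^ 4 = 1) (hh : h ^ 4 = 1) (k : MulAut.conj g = MulAut.conj h) : g = h := by
  obtain ⟨c, hc⟩ := conj_eq_iff.1 k
  have h1 := congrArg Units.val hg
  rw [Units.val_pow_eq_pow_val, hc, smul_pow, ← Units.val_pow_eq_pow_val, hh, pow4] at h1
  have h2 := congrFun (congrFun h1 0) 0
  simp at h2
  exact Units.ext (by rw [hc, h2, one_smul])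

/-- the long element -/
noncomputable def w0 : GG := ⟨!![0, 0, 1; 0, 1, 0; 1, 0, 0], !![0, 0, 1; 0, 1, 0; 1, 0, 0], by
    ext i j; fin_cases i <;> fin_cases j <;> simp [Matrix.mul_apply, Fin.sum_univ_three], by
    ext i j; fin_cases i <;> fin_cases j <;> simp [Matrix.mul_apply, Fin.sum_univ_three]⟩

theorem w0_val : (w0 : Matrix (Fin 3) (Fin 3) F) = !![0, 0, 1; 0, 1, 0; 1, 0, 0] := rfl

theorem phi_xu (p r q : F) : phi ff4 (xu p r q) = xu (p ^ 2) (r ^ 2) (q ^ 2) := Units.ext (by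
  rw [phi_val, xu_val, xu_val]
  ext i j; fin_cases i <;> fin_cases j <;> simp [fr_eq])

theorem tau_xu (p r q : F) : w0 * tau ff4 (xu p r q) * w0⁻¹ = xu (-r) (-p) (p * r - q) := by
  rw [mul_inv_eq_iff_eq_mul]
  refine Units.ext ?_
  rw [Units.val_mul, Units.val_mul, tau_val, xu_inv, xu_val, xu_val, w0_val]
  ext i j; fin_cases i <;> fin_cases j <;> simp [Matrix.mul_apply, Fin.sum_univ_three]

/-- the automorphisms `conj g * φ ^ j * τ ^ ε` -/
def In0 (α : MulAut GG) : Prop := ∃ g o, α = MulAut.conj g * sig ff4 o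

theorem sig_cases (o : ℕ) : sig ff4 (ι := Fin 3) o = 1 ∨ sig ff4 (ι := Fin 3) o = phi ff4 ∨
    sig ff4 (ι := Fin 3) o = tau ff4 ∨ sig ff4 (ι := Fin 3) o = tau ff4 * phi ff4 := by
  unfold sig
  rw [← pow_mod_of (k := 2) (phi_pow ff4)]
  rcases Nat.mod_two_eq_zero_or_one (o / 2) with h | h <;> rcases Nat.mod_two_eq_zero_or_one o with h' | h' <;>
    simp [h, h', (phi_tau ff4).eq]

theorem sig_sq (o : ℕ) : sig ff4 (ι := Fin 3) o * sig ff4 o = 1 := by
  have h1 : phi ff4 (ι := Fin 3) * phi ff4 = 1 := by rw [← pow_two]; exact phi_pow ff4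
  rcases sig_cases o with h | h | h | h <;> rw [h]
  · exact one_mul _
  · exact h1
  · exact tau_sq ff4
  · rw [mul_assoc, ← mul_assoc (phi ff4), (phi_tau ff4).eq, mul_assoc, h1, mul_one, tau_sq]

/-- the group of these automorphisms -/
def Gam : Subgroup (MulAut GG) where
  carrier := In0
  one_mem' := ⟨1, 0, by rw [sig_zero, map_one, one_mul]⟩
  mul_mem' := by
    rintro _ _ ⟨g, o, rfl⟩ ⟨k, o', rfl⟩
    refine ⟨g * sig ff4 o k, oadd ff4 o o', ?_⟩
    rw [sig_oadd, map_mul, mul_assoc, mul_assoc, ← mul_assoc (sig ff4 _), conj_mul_aut, mul_assoc]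
  inv_mem' := by
    rintro _ ⟨g, o, rfl⟩
    refine ⟨sig ff4 o g⁻¹, o, ?_⟩
    rw [_root_.mul_inv_rev, inv_eq_of_mul_eq_one_right (sig_sq o), ← map_inv, conj_mul_aut]

theorem In0.sq {α : MulAut GG} (h : In0 α) : ∃ g, α * α = MulAut.conj g := by
  obtain ⟨g, o, rfl⟩ := h
  refine ⟨g * sig ff4 o g, ?_⟩
  rw [map_mul, mul_assoc, ← mul_assoc (sig ff4 _), conj_mul_aut, mul_assoc, sig_sq, mul_one]

theorem In0.sl {α : MulAut GG} (h : In0 α) {u : GG} (hu : u ∈ slH ff4 3) : α u ∈ slH ff4 3 := by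
  obtain ⟨g, o, rfl⟩ := h
  refine slH_conj ff4 g _ ?_
  rcases sig_cases o with h | h | h | h <;> rw [h]
  · exact hu
  · exact slH_phi ff4 _ hu
  · exact slH_tau ff4 _ hu
  · exact slH_tau ff4 _ (slH_phi ff4 _ hu)

/-- The automorphisms which map the central element `xu 0 0 1` to a central element. -/
theorem In0.nrm {α : MulAut GG} (h : In0 α) {t : F} (ht : α (xu 0 0 1) = xu 0 0 t) :
    ∃ g, Up g ∧ (α = MulAut.conj g ∨ (∀ p r q, α (xu p r q) = g * xu (p ^ 2) (r ^ 2) (q ^ 2) * g⁻¹) ∨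
      (∀ p r q, α (xu p r q) = g * xu (-r) (-p) (p * r - q) * g⁻¹) ∨
      ∀ p r q, α (xu p r q) = g * xu (-r ^ 2) (-p ^ 2) (p ^ 2 * r ^ 2 - q ^ 2) * g⁻¹) := by
  have h0 : (-1 : F) = 1 := by linear_combination -two
  obtain ⟨g, o, rfl⟩ := h
  rcases sig_cases o with h | h | h | h <;> rw [h] at ht ⊢
  · rw [mul_one] at ht ⊢
    exact ⟨g, up_of ht, Or.inl rfl⟩
  · have k : ∀ p r q, (MulAut.conj g * phi ff4 : MulAut GG) (xu p r q) =
        g * xu (p ^ 2) (r ^ 2) (q ^ 2) * g⁻¹ := fun p r q => by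
      rw [MulAut.mul_apply, phi_xu, MulAut.conj_apply]
    refine ⟨g, up_of (t := t) ?_, Or.inr (Or.inl k)⟩
    simpa using (k 0 0 1).symm.trans ht
  · have k : ∀ p r q, (MulAut.conj g * tau ff4 : MulAut GG) (xu p r q) =
        g * w0⁻¹ * xu (-r) (-p) (p * r - q) * (g * w0⁻¹)⁻¹ := fun p r q => by
      rw [MulAut.mul_apply, ← tau_xu, MulAut.conj_apply]
      group
    refine ⟨g * w0⁻¹, up_of (t := t) ?_, Or.inr (Or.inr (Or.inl k))⟩
    simpa [h0] using (k 0 0 1).symm.trans ht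
  · have k : ∀ p r q, (MulAut.conj g * (tau ff4 * phi ff4) : MulAut GG) (xu p r q) =
        g * w0⁻¹ * xu (-r ^ 2) (-p ^ 2) (p ^ 2 * r ^ 2 - q ^ 2) * (g * w0⁻¹)⁻¹ := fun p r q => by
      rw [MulAut.mul_apply, MulAut.mul_apply, phi_xu, ← tau_xu, MulAut.conj_apply]
      group
    refine ⟨g * w0⁻¹, up_of (t := t) ?_, Or.inr (Or.inr (Or.inr k))⟩
    simpa [h0] using (k 0 0 1).symm.trans ht

theorem In0.nm {α : MulAut GG} (h : In0 α) {t : F} (ht : α (xu 0 0 1) = xu 0 0 t) (p r q : F) :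
    ∃ p' r' q', α (xu p r q) = xu p' r' q' := by
  obtain ⟨g, ⟨a, b, c, x, y, z, -, hb, hc, hg⟩, k | k | k | k⟩ := h.nrm ht
  · exact ⟨_, _, _, by rw [k, MulAut.conj_apply, up_conj hb hc hg]⟩
  all_goals exact ⟨_, _, _, by rw [k, up_conj hb hc hg]⟩

theorem In0.cen {α : MulAut GG} (h : In0 α) (k : ∀ p r q, α (xu p r q) = xu p r q) :
    ∃ p r q, α = MulAut.conj (xu p r q) := by
  obtain ⟨g, ⟨a, b, c, x, y, z, ha, hb, hc, hg⟩, k1 | k1 | k1 | k1⟩ := h.nrm (k 0 0 1)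
  · have k2 := k 1 0 0
    have k3 := k 0 1 0
    rw [k1, MulAut.conj_apply, up_conj hb hc hg] at k2 k3
    have k4 := (xu_inj k2).1
    have k5 := (xu_inj k3).2.1
    rw [mul_one, div_eq_one_iff_eq hb] at k4
    rw [mul_one, div_eq_one_iff_eq hc] at k5
    subst k4 k5
    refine ⟨x / a, z / a, y / a, k1.trans (conj_eq_iff.2 ⟨a, ?_⟩)⟩
    rw [hg, xu_val]
    ext i j; fin_cases i <;> fin_cases j <;> simp <;> field_simp
  · obtain ⟨w, hw⟩ := exists_om
    have k2 := (k1 0 0 1).symm.trans (k 0 0 1)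
    have k3 := (k1 0 0 w).symm.trans (k 0 0 w)
    rw [up_conj hb hc hg] at k2 k3
    have k4 := (xu_inj k2).2.2
    have k5 := (xu_inj k3).2.2
    exact absurd (show (1 : F) = 0 by linear_combination hw - k5 + w ^ 2 * k4 - w * two) one_ne_zero
  · have k2 := (k1 1 0 0).symm.trans (k 1 0 0)
    rw [up_conj hb hc hg] at k2
    simpa using (xu_inj k2).1
  · have k2 := (k1 1 0 0).symm.trans (k 1 0 0)
    rw [up_conj hb hc hg] at k2
    simpa using (xu_inj k2).1

/-- the first row -/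
theorem In0.row {α : MulAut GG} (h : In0 α) {t : F} (ht : α (xu 0 0 1) = xu 0 0 t) (hn : ∀ g, α ≠ MulAut.conj g)
    {p' q' : F} (h1 : α (xu 1 0 0) = xu p' 0 q') {p q : F} (h2 : α (xu p 0 q) = xu p 0 q) :
    ∃ r t, xu p 0 q = α (xu r 0 t) * (xu r 0 t)⁻¹ := by
  obtain ⟨g, ⟨a, b, c, x, y, z, ha, hb, hc, hg⟩, k | k | k | k⟩ := h.nrm ht
  · exact absurd k (hn g)
  · rw [k, up_conj hb hc hg] at h2
    obtain ⟨r, t, k1, k2⟩ := semi (a := a / b) (b := -(a / b * z / c)) (c := a / c) (p := p) (q := q) (div_ne_zero ha hc)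
      (xu_inj h2).1 (by linear_combination (xu_inj h2).2.2)
    refine ⟨r, t, ?_⟩
    rw [eq_mul_inv_iff_mul_eq, k, up_conj hb hc hg, xu_mul]
    congr 1
    · exact k1.symm
    · ring
    · linear_combination -k2
  · rw [k, up_conj hb hc hg] at h1
    have k1 := (xu_inj h1).2.1
    simp [hb, hc] at k1
  · rw [k, up_conj hb hc hg] at h1
    have k1 := (xu_inj h1).2.1
    simp [hb, hc] at k1

/-- the last column -/
theorem In0.col {α : MulAut GG} (h : In0 α) {t : F} (ht : α (xu 0 0 1) = xu 0 0 t) (hn : ∀ g, α ≠ MulAut.conj g)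
    {p' q' : F} (h1 : α (xu 0 1 0) = xu 0 p' q') {p q : F} (h2 : α (xu 0 p q) = xu 0 p q) :
    ∃ r t, xu 0 p q = α (xu 0 r t) * (xu 0 r t)⁻¹ := by
  obtain ⟨g, ⟨a, b, c, x, y, z, ha, hb, hc, hg⟩, k | k | k | k⟩ := h.nrm ht
  · exact absurd k (hn g)
  · rw [k, up_conj hb hc hg] at h2
    obtain ⟨r, t, k1, k2⟩ := semi (a := b / c) (b := x / c) (c := a / c) (p := p) (q := q) (div_ne_zero ha hc)
      (xu_inj h2).2.1 (by linear_combination (xu_inj h2).2.2)
    refine ⟨r, t, ?_⟩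
    rw [eq_mul_inv_iff_mul_eq, k, up_conj hb hc hg, xu_mul]
    congr 1
    · ring
    · exact k1.symm
    · linear_combination -k2
  · rw [k, up_conj hb hc hg] at h1
    have k1 := (xu_inj h1).1
    simp [ha, hb] at k1
  · rw [k, up_conj hb hc hg] at h1
    have k1 := (xu_inj h1).1
    simp [ha, hb] at k1

/-- the Borel subgroup -/
theorem Up.bq {g : GG} (h : Up g) (hs : g ∈ slH ff4 3) :
    ∃ (a : Fˣ) (p r q : F), MulAut.conj g = MulAut.conj (xu p r q * dg a) := by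
  obtain ⟨a, b, c, x, y, z, ha, hb, hc, hg⟩ := h
  rw [mem_slH, hg, det_fin_three] at hs
  simp at hs
  have h1 : (b / a)⁻¹ = c / a := inv_eq_of_mul_eq_one_right (by
    field_simp
    exact mul_left_cancel₀ ha (by linear_combination hs - cube ha))
  refine ⟨Units.mk0 (b / a) (div_ne_zero hb ha), x / b, z / c, y / c, conj_eq_iff.2 ⟨a, ?_⟩⟩
  rw [hg, bq_val, Units.val_mk0, h1]
  ext i j; fin_cases i <;> fin_cases j <;> simp <;> field_simp

theorem bq_inj {a a' : Fˣ} {p r q p' r' q' : F}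
    (h : MulAut.conj (xu p r q * dg a) = MulAut.conj (xu p' r' q' * dg a')) : a = a' ∧ p = p' ∧ r = r' ∧ q = q' := by
  obtain ⟨c, hc⟩ := conj_eq_iff.1 h
  have h1 := hc
  rw [bq_val, bq_val] at h1
  have h2 := congrFun (congrFun h1 0) 0
  have h3 := congrFun (congrFun h1 1) 1
  simp at h2 h3
  rw [← h2, one_mul] at h3
  rw [← h2, one_smul] at hc
  obtain rfl : a = a' := Units.ext h3
  exact ⟨rfl, xu_inj (mul_right_cancel (Units.ext hc))⟩

theorem bq_conj (a : Fˣ) (p r q p' r' q' : F) :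
    ∃ p'' r'' q'', xu p r q * dg a * xu p' r' q' * (xu p r q * dg a)⁻¹ = xu p'' r'' q'' :=
  ⟨_, _, _, up_conj a.ne_zero (inv_ne_zero a.ne_zero) (bq_val a p r q) _ _ _⟩

end Cfsg.Agent.FS.N.R34
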