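import Cfsg.Agent.FS.N.R34.Main

/-!
# No element of order six in `L₃(4)` (helper88, project FS/N)
-/

set_option autoImplicit false

namespace Cfsg.Agent.FS.N.R34

open Cfsg Matrix Cfsg.Agent.FS.N.M Cfsg.Agent.FS.Real
open scoped Pointwise

theorem to_z {p r q : F} (h : p * r = 0) (h1 : xu p r q ≠ 1) : ∃ k : GG, k * xu p r q * k⁻¹ = xu 0 0 1 := by
  have key : ∀ m : Matrix (Fin 3) (Fin 3) F, m.det ≠ 0 → m * !![1, p, q; 0, 1, r; 0, 0, 1] =
      !![1, 0, 1; 0, 1, 0; 0, 0, 1] * m → ∃ k : GG, k * xu p r q * k⁻¹ = xu 0 0 1 := fun m hm k =>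
    ⟨GeneralLinearGroup.mkOfDetNeZero m hm, mul_inv_eq_iff_eq_mul.2 (Units.ext k)⟩
  by_cases hp : p = 0
  · subst hp
    by_cases hr : r = 0
    · subst hr
      have hq : q ≠ 0 := by
        rintro rfl
        exact h1 xu_zero
      refine key !![1, 0, 0; 0, 1, 0; 0, 0, q] (by simpa [det_fin_three] using hq) ?_
      ext i j; fin_cases i <;> fin_cases j <;> simp [Matrix.mul_apply, Fin.sum_univ_three]
    · refine key !![0, r⁻¹, 0; r, -q, 0; 0, 0, 1] (by simpa [det_fin_three] using hr) ?_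
      ext i j; fin_cases i <;> fin_cases j <;> simp [Matrix.mul_apply, Fin.sum_univ_three, hr, mul_comm]
  · obtain rfl := (mul_eq_zero.1 h).resolve_left hp
    refine key !![1, 0, 0; 0, 0, 1; 0, p, q] (by simpa [det_fin_three] using hp) ?_
    ext i j; fin_cases i <;> fin_cases j <;> simp [Matrix.mul_apply, Fin.sum_univ_three]

theorem four_of {g : GG} (hg : g ∈ slH ff4 3) (h : g * xu 0 0 1 * g⁻¹ = xu 0 0 1) : MulAut.conj g ^ 4 = 1 := by
  obtain ⟨a, b, c, x, y, z, ha, hb, hc, k⟩ := up_of h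
  rw [up_conj hb hc k] at h
  have h1 := (xu_inj h).2.2
  rw [mul_zero, mul_zero, mul_one, add_zero, sub_zero, div_eq_one_iff_eq hc] at h1
  subst h1
  rw [mem_slH, k, det_fin_three] at hg
  simp at hg
  obtain rfl : a = b := mul_left_cancel₀ (mul_ne_zero ha ha) (by linear_combination cube ha - hg)
  have h2 : MulAut.conj g = MulAut.conj (xu (x / a) (z / a) (y / a)) := conj_eq_iff.2 ⟨a, by
    rw [k, xu_val]
    ext i j; fin_cases i <;> fin_cases j <;> simp <;> field_simp⟩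
  rw [h2, ← map_pow, xu_four, map_one]

variable {G : Type} [Group G] {ι : G →* MulAut GG}

theorem Btw.no3_ue (h : Btw ι) {t c : G} (ht : t ∈ UU ι) (h1 : t ≠ 1) (h2 : t * t = 1) (hc : c ∈ NN ι)
    (k : c * t = t * c) : c ^ 4 = 1 := by
  obtain ⟨p, r, q, rfl⟩ := h.mem_UU ht
  obtain ⟨g, hg, k1⟩ := hc
  rw [h.ue_mul, ← h.ue_zero] at h2
  obtain ⟨m, hm⟩ := to_z (p := p) (r := r) (q := q) (by linear_combination (h.ue_inj h2).2.2 - q * two) fun k2 =>
    h1 (h.inj (by rw [h.ue_spec, k2, map_one, map_one]))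
  have k2 : g * xu p r q * g⁻¹ = xu p r q := by
    have k3 := h.cj_iff.1 (show c * h.ue p r q * c⁻¹ = h.ue p r q by rw [k, mul_inv_cancel_right])
    rwa [← k1] at k3
  have k3 := four_of (slH_conj ff4 m g hg) (by
    rw [← hm]
    calc m * g * m⁻¹ * (m * xu p r q * m⁻¹) * (m * g * m⁻¹)⁻¹ = m * (g * xu p r q * g⁻¹) * m⁻¹ := by group
      _ = _ := by rw [k2])
  rw [map_mul, map_mul, map_inv, conj_pow, mul_inv_eq_one, mul_eq_left] at k3
  exact h.inj (by rw [map_pow, ← k1, k3, map_one])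

/-- no element of order six in the residual, if it is `L₃(4)` -/
theorem Btw.no3 [Finite G] (h : Btw ι) (hN : pResidual 2 G ≤ NN ι) {t : G} (ht : t ∈ pResidual 2 G) (h1 : t ≠ 1)
    (h2 : t * t = 1) : ¬ 3 ∣ Nat.card (Subgroup.centralizer {t} : Subgroup G) := by
  have : Fact (Nat.Prime 2) := ⟨Nat.prime_two⟩
  have : Fact (Nat.Prime 3) := ⟨Nat.prime_three⟩
  have hR := Transfer.Residual.pResidual_normal (p := 2) (G := G)
  intro h3
  obtain ⟨c, hc⟩ := exists_prime_orderOf_dvd_card' 3 h3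
  have h4 : c ^ 3 = 1 := by rw [← hc, pow_orderOf_eq_one]
  have h5 : (c : G) ^ 3 = 1 := congrArg Subtype.val h4
  obtain ⟨T, hT⟩ := (IsPGroup.of_card (p := 2) (n := 1) (G := Subgroup.zpowers t) (by
    rw [Nat.card_zpowers, pow_one]
    exact orderOf_eq_prime (by rw [pow_two, h2]) h1)).exists_le_sylow
  obtain ⟨S, hS⟩ := (IsPGroup.of_card (p := 2) (n := 6) h.card_UU).exists_le_sylow
  obtain ⟨g, hg⟩ := MulAction.exists_smul_eq G T S
  have h' := h.cnj g
  have hN' : pResidual 2 G ≤ NN (ι.comp (MulAut.conj g).toMonoidHom) := fun a ha => hN (hR.conj_mem a ha g)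
  have hU : UU (ι.comp (MulAut.conj g).toMonoidHom) ≤ T := fun a ha => by
    have k : MulAut.conj g a ∈ (S : Subgroup G) := hS ha
    rw [← hg, Sylow.coe_subgroup_smul] at k
    exact Subgroup.smul_mem_pointwise_smul_iff.1 k
  have h6 := h'.no3_ue (h'.inf_NN T.isPGroup' hU ▸ ⟨hT (Subgroup.mem_zpowers t), hN' ht⟩) h1 h2
    (hN' (mem_pResidual_of_pow (m := 3) rfl h5)) (Subgroup.mem_centralizer_singleton_iff.1 c.2)
  rw [pow_succ, h5, one_mul] at h6
  rw [show c = 1 from Subtype.ext h6, orderOf_one] at hc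
  cases hc

/-- **The models `L₃(4).x`.** -/
theorem L34_no3 {ts : List (ℕ × ℕ)} {D : PcD} {X : ℕ → ℕ} {x : ℕ → MulAut GG}
    (hx : (mAut ff4 (Equiv.refl (Fin 3)) ts).RX D X x) {S : Subgroup ((famSL ff4 3).Gp D x)}
    (H : Gen D S (extX (famSL ff4 3).N D.n x)) {t : (famSL ff4 3).Gp D x} (ht : t ∈ pResidual 2 _) (h1 : t ≠ 1)
    (h2 : t * t = 1) : ¬ 3 ∣ Nat.card (Subgroup.centralizer {t} : Subgroup ((famSL ff4 3).Gp D x)) := by
  have h := btw_fam (famSL ff4 3) le_rfl hx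
  have : Finite (MulAut GG) := Finite.of_injective _ DFunLike.coe_injective
  refine h.no3 ?_ ht h1 h2
  have hN := h.normal
  have hs : NN (ext (famSL ff4 3).N D.n x).subtype ⊔ S = ⊤ := extN_sup fun i hi => H.x_mem hi
  refine Transfer.Residual.pResidual_le_of_isPGroup_quotient
    (H.isPGroup.of_surjective ((QuotientGroup.mk' _).comp S.subtype) fun q => ?_)
  obtain ⟨g, rfl⟩ := QuotientGroup.mk'_surjective _ q
  have hg : g ∈ (NN (ext (famSL ff4 3).N D.n x).subtype : Set ((famSL ff4 3).Gp D x)) *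
      (S : Set ((famSL ff4 3).Gp D x)) := by
    rw [← Subgroup.normal_mul, hs]
    exact Subgroup.mem_top g
  obtain ⟨u, hu, s, hs', rfl⟩ := hg
  refine ⟨⟨s, hs'⟩, ?_⟩
  show QuotientGroup.mk' _ s = QuotientGroup.mk' _ (u * s)
  rw [map_mul, show QuotientGroup.mk' _ u = 1 from (QuotientGroup.eq_one_iff u).2 hu, one_mul]

/-- the same from `Base` -/
theorem L34_no3' {ts : List (ℕ × ℕ)} {D : PcD} {X : ℕ → ℕ} {x : ℕ → MulAut GG} {K : ℕ}
    (hx : (mAut ff4 (Equiv.refl (Fin 3)) ts).RX D X x)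
    (B : Base D ((famSL ff4 3).Gp D x) (extX (famSL ff4 3).N D.n x) K) {t : (famSL ff4 3).Gp D x}
    (ht : t ∈ pResidual 2 _) (h1 : t ≠ 1) (h2 : t * t = 1) :
    ¬ 3 ∣ Nat.card (Subgroup.centralizer {t} : Subgroup ((famSL ff4 3).Gp D x)) := by
  obtain ⟨_, ⟨T, k, -⟩, -⟩ := B
  exact L34_no3 hx k ht h1 h2

end Cfsg.Agent.FS.N.R34
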